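import Cfsg.Agent.Lib.Fusion.Saturation

/-
Saturated fusion systems over abelian groups.
Main results: `exists_aut_extension` (every map is the restriction of an element of `Aut_F(S)`),
`autInducedBy_eq_bot`, `not_dvd_card_autGroup` (`Aut_F(S)` has order prime to `p`).
-/

set_option autoImplicit false

namespace Cfsg.Agent.FusionAbelian

open Cfsg Cfsg.FusionSystem Cfsg.Agent.Fusion

variable {Ω : Type*} [Group Ω] {S : Subgroup Ω} {F : FusionSystem S} {p : ℕ}

theorem centralizerIn_eq (hab : ∀ x ∈ S, ∀ y ∈ S, x * y = y * x) {P : Subgroup Ω} (hP : P ≤ S) :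
    centralizerIn S P = S :=
  le_antisymm inf_le_left fun g hg => mem_centralizerIn.2 ⟨hg, fun x hx => hab g hg x (hP hx)⟩

/-- In a saturated system over an abelian group every map extends to an automorphism of `S`. -/
theorem exists_aut_extension [Finite S] [Fact p.Prime] (hS : IsPGroup p S) (hF : F.IsSaturated p)
    (hab : ∀ x ∈ S, ∀ y ∈ S, x * y = y * x) {P : Subgroup Ω} {f : Ω → Ω} (hf : IsMap F P f) :
    ∃ α ∈ F.autGroup S, ∀ x ∈ P, autFn α x = f x := by
  have hQ : img f P ≤ S := hf.img_le_S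
  have hfc : F.IsFullyCentralized (img f P) := by
    refine ⟨hQ, fun R hR => ?_⟩
    rw [centralizerIn_eq hab hQ, centralizerIn_eq hab (isConj_le hR).2]
  obtain ⟨f', hf', he⟩ :=
    (isReceptive_iff.1 (receptive_of_fullyCentralized hS hF hfc)).2 P f hf.isIso
  have hle : S ≤ Nx S P f := by
    have h := centralizerIn_le_Nx S P f
    rwa [centralizerIn_eq hab hf.le] at h
  have hm : IsMap F S f' := hf'.mono hle
  have hiso : IsIso F S S f' :=
    ⟨hm, eq_of_le_of_card le_rfl hm.img_le_S (hm.card_img le_rfl).ge⟩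
  obtain ⟨α, hα, hαe⟩ := exists_aut_of_isIso hiso
  refine ⟨α, hα, fun x hx => ?_⟩
  rw [autFn_apply α (hf.le hx), hαe, he x hx]

theorem autInducedBy_eq_bot (hab : ∀ x ∈ S, ∀ y ∈ S, x * y = y * x) {P : Subgroup Ω}
    (hP : P ≤ S) : autInducedBy S P = ⊥ := by
  rw [eq_bot_iff]
  intro α hα
  obtain ⟨g, hg, h⟩ := mem_autInducedBy_iff.1 hα
  rw [Subgroup.mem_bot]
  ext x
  rw [h x, hab g hg x (hP x.2)]
  simp

theorem fullyNormalized_self [Finite S] (F : FusionSystem S) : F.IsFullyNormalized S := by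
  refine ⟨le_rfl, fun Q hQ => ?_⟩
  obtain ⟨f, hf⟩ := isConj_iff.1 hQ
  have : Q = S := eq_of_le_of_card le_rfl hf.le_right hf.card_eq.ge
  rw [this]

/-- `Aut_F(S)` has order prime to `p` for `S` abelian. -/
theorem not_dvd_card_autGroup [Finite S] [Fact p.Prime] (hS : IsPGroup p S)
    (hF : F.IsSaturated p) (hab : ∀ x ∈ S, ∀ y ∈ S, x * y = y * x) :
    ¬ p ∣ Nat.card (F.autGroup S) := by
  have hA := (isFullyAutomized_iff.1
    (fullyAutomized_of_fullyNormalized hS hF (fullyNormalized_self F))).2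
  rw [autInducedBy_eq_bot hab le_rfl] at hA
  haveI := finite_mulAut (S := S) (P := S) le_rfl
  have hc := hA.card
  rw [Subgroup.card_bot] at hc
  intro hdvd
  have h1 : 1 ≤ (Nat.card (F.autGroup S)).factorization p :=
    (Fact.out : p.Prime).factorization_pos_of_dvd Nat.card_pos.ne' hdvd
  have := Nat.one_lt_pow (Nat.one_le_iff_ne_zero.1 h1) (Fact.out : p.Prime).one_lt
  omega

end Cfsg.Agent.FusionAbelian
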